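import Groth.Agent.LineDescQ.PrDescent
import Groth.Agent.LineDescQ.Affine

/-!
# Descent data for invertible modules
-/

set_option autoImplicit false
set_option backward.isDefEq.respectTransparency false
set_option backward.isDefEq.respectTransparency.types false
set_option linter.style.haveILetI false
set_option maxHeartbeats 1000000

universe u

open CategoryTheory CategoryTheory.Limits AlgebraicGeometry TopologicalSpace

noncomputable section

namespace Groth.Agent.LineDescQ

open ThetaLib ThetaLibQ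

/-- A descent datum for the module of `P'` along `w`, as a relation between cartesian morphisms to `P'`. -/
structure LDatum (P' : Pr.{u}) {X : Scheme.{u}} (w : P'.base ⟶ X) where
  /-- Two morphisms are identified by the datum. -/
  Rel : ∀ {W : Pr.{u}}, (W ⟶ P') → (W ⟶ P') → Prop
  base : ∀ {W : Pr.{u}} {a a' : W ⟶ P'}, Rel a a' → a.base ≫ w = a'.base ≫ w
  refl : ∀ {W : Pr.{u}} (a : W ⟶ P'), IsIso (fib a) → Rel a a
  symm : ∀ {W : Pr.{u}} {a a' : W ⟶ P'}, IsIso (fib a) → IsIso (fib a') → Rel a a' → Rel a' a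
  trans : ∀ {W : Pr.{u}} {a a' a'' : W ⟶ P'}, IsIso (fib a) → IsIso (fib a') → IsIso (fib a'') → Rel a a' →
    Rel a' a'' → Rel a a''
  natural : ∀ {W' W : Pr.{u}} (c : W' ⟶ W) {a a' : W ⟶ P'}, IsIso (fib c) → IsIso (fib a) → IsIso (fib a') →
    Rel a a' → Rel (c ≫ a) (c ≫ a')
  exists_rel : ∀ {W : Pr.{u}} (a : W ⟶ P') (b : W.base ⟶ P'.base), IsIso (fib a) → a.base ≫ w = b ≫ w →
    ∃ a' : W ⟶ P', a'.base = b ∧ IsIso (fib a') ∧ Rel a a'
  unique : ∀ {W : Pr.{u}} {a a' a'' : W ⟶ P'}, IsIso (fib a) → IsIso (fib a') → IsIso (fib a'') → Rel a a' →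
    Rel a a'' → a'.base = a''.base → a' = a''

end Groth.Agent.LineDescQ
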