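import Groth.Agent.LineDescQ.Chart
import Groth.Agent.H23.CocycleMod
import Groth.Agent.Boundary.Glue

/-!
# Morphisms of pairs given by frames
-/

set_option autoImplicit false
set_option backward.isDefEq.respectTransparency false
set_option backward.isDefEq.respectTransparency.types false
set_option linter.style.haveILetI false
set_option maxHeartbeats 1000000

universe u

open CategoryTheory CategoryTheory.Limits AlgebraicGeometry TopologicalSpace Pseudofunctor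

noncomputable section

namespace Groth.Agent.LineDescQ

open ThetaLib ThetaLibQ Groth.Agent.AModX Groth.Agent.InvX

variable {X : Scheme.{u}}

theorem pl_congr {P Q : Pr.{u}} {F G : P ⟶ Q} [IsIso (fib F)] [IsIso (fib G)] (h : F = G) {U : Q.base.Opens}
    (q : Γ(mdl Q, U)) {T : P.base.Opens} (hF : T ≤ F.base ⁻¹ᵁ U) (hG : T ≤ G.base ⁻¹ᵁ U) :
    res (mdl P) hF (pl F q) = res (mdl P) hG (pl G q) := by
  subst h; rfl

theorem isFrame_one (X : Scheme.{u}) (O : X.Opens) :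
    IsFrame (M := Coh.structureModule X) (U := O) (1 : Γ(X, O)) := fun V h => by
  have e : ∀ r : Γ(X, V), r • res (Coh.structureModule X) h (show Γ(Coh.structureModule X, O) from (1 : Γ(X, O))) = (r : Γ(X, V)) := fun r => by
    show r * (X.presheaf.map (homOfLE h).op).hom (1 : Γ(X, O)) = r
    rw [map_one, mul_one]
  exact ⟨fun a b hab => (e a).symm.trans (hab.trans (e b)), fun y => ⟨y, e y⟩⟩

/-- The morphism of a frame. -/
theorem exists_homOfFrame {L : X.Modules} {O : X.Opens} {e : Γ(L, O)} (he : IsFrame e) :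
    ∃ j : Ptriv O.ι ⟶ (⟨X, L⟩ : Pr.{u}), j.base = O.ι ∧ ∃ _ : IsIso (fib j), ∀ (T : O.toScheme.Opens)
      (h₁ : T ≤ j.base ⁻¹ᵁ O) (h₂ : T ≤ O.ι ⁻¹ᵁ O),
      res (mdl (Ptriv O.ι)) h₁ (pl j e) = res (mdl (Ptriv O.ι)) h₂ (pullElt O.ι (M := Coh.structureModule X) (U := O) (1 : Γ(X, O))) := by
  have hle : ∀ V : X.Opens, O.ι ⁻¹ᵁ V ≤ O.ι ⁻¹ᵁ O := fun V z _ => z.2
  let N := (Scheme.Modules.pullback O.ι).obj L
  let g : Γ(N, O.ι ⁻¹ᵁ O) := pullElt O.ι e
  obtain ⟨φ, hφ⟩ := exists_pullHom O.ι (M := Coh.structureModule X) (N := N)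
    (fun V (c : Γ(X, V)) => O.ι.app V c • res N (hle V) g)
    (fun V (a b : Γ(X, V)) => by show O.ι.app V (a + b) • _ = _; rw [map_add, add_smul])
    (fun V c (a : Γ(X, V)) => by show O.ι.app V (c * a) • _ = _; rw [map_mul, mul_smul])
    (fun V V' h a => by
      show O.ι.app V' ((X.presheaf.map (homOfLE h).op).hom a) • _ = _
      rw [res_smul, res_res]
      congr 1
      exact congr($(Scheme.Hom.naturality O.ι (homOfLE h).op) a))
  have h1 : φ.app (O.ι ⁻¹ᵁ O) (pullElt O.ι (M := Coh.structureModule X) (U := O) (1 : Γ(X, O))) = g := by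
    rw [hφ]
    show O.ι.app O (1 : Γ(X, O)) • _ = _
    rw [map_one, one_smul, res_self]
  have hframe : IsFrame (φ.app (O.ι ⁻¹ᵁ O) (pullElt O.ι (M := Coh.structureModule X) (U := O) (1 : Γ(X, O)))) := by
    rw [h1]; exact isFrame_pullElt O.ι he
  haveI : IsIso φ := Scheme.Modules.Hom.isIso_iff_isIso_app.2 fun V => (ConcreteCategory.isIso_iff_bijective _).2
    (Boundary.bijective_app_of_frame φ (isFrame_pullElt O.ι (isFrame_one X O)) hframe (fun z _ => z.2))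
  let j : Ptriv O.ι ⟶ (⟨X, L⟩ : Pr.{u}) := mkH O.ι φ
  haveI : IsIso (fib j) := inferInstanceAs (IsIso φ)
  refine ⟨j, rfl, inferInstance, fun T h₁ h₂ => ?_⟩
  congr 1
  show (inv φ).app _ (pullElt O.ι e) = _
  rw [show pullElt O.ι e = g from rfl, ← h1]
  exact congr($(IsIso.hom_inv_id φ).app (O.ι ⁻¹ᵁ O) (pullElt O.ι (M := Coh.structureModule X) (U := O) (1 : Γ(X, O))))

/-- Morphisms into the domain of a frame are determined by the frame. -/
theorem eq_of_pl_frame {P R : Pr.{u}} {F G : P ⟶ R} [IsIso (fib F)] [IsIso (fib G)] (hb : F.base = G.base)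
    {O : R.base.Opens} {e : Γ(mdl R, O)} (he : IsFrame e) (hF : ∀ p, p ∈ F.base ⁻¹ᵁ O)
    (h : res (mdl P) (fun p _ => hF p : (⊤ : P.base.Opens) ≤ F.base ⁻¹ᵁ O) (pl F e) =
      res (mdl P) (fun p _ => hb ▸ hF p : (⊤ : P.base.Opens) ≤ G.base ⁻¹ᵁ O) (pl G e)) : F = G := by
  obtain ⟨b, f⟩ := F; obtain ⟨b', g⟩ := G
  dsimp only at hb
  subst hb
  have h' : pl (⟨b, f⟩ : P ⟶ R) e = pl (⟨b, g⟩ : P ⟶ R) e := by
    have h2 := congrArg (res (mdl P) (le_top : b ⁻¹ᵁ O ≤ ⊤)) h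
    rw [res_res, res_res, res_self, res_self] at h2
    exact h2
  refine eq_of_pl rfl fun U r h₀ => eq_of_locally _ _ fun x hx => ⟨b ⁻¹ᵁ (U ⊓ O), b.preimage_mono (inf_le_left : U ⊓ O ≤ U), ⟨hx, hF x⟩, ?_⟩
  obtain ⟨c, hc⟩ := he.exists_coord (inf_le_right : U ⊓ O ≤ O) (res (mdl R) inf_le_left r)
  rw [res_res]
  have e1 : ∀ (K : P ⟶ R) [IsIso (fib K)], res (mdl P) (K.base.preimage_mono (inf_le_left : U ⊓ O ≤ U)) (pl K r) =
      K.base.app (U ⊓ O) c • res (mdl P) (K.base.preimage_mono (inf_le_right : U ⊓ O ≤ O)) (pl K e) := by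
    intro K _
    rw [pl_res K (inf_le_left : U ⊓ O ≤ U), hc, pl_smul, pl_res K (inf_le_right : U ⊓ O ≤ O)]
  exact (e1 ⟨b, f⟩).trans ((congrArg (fun q => b.app (U ⊓ O) c • res (mdl P) (b.preimage_mono inf_le_right) q) h').trans
    (e1 ⟨b, g⟩).symm)

/-- Inverse images along scaled morphisms. -/
theorem pl_smulH {P Q : Pr.{u}} (F : P ⟶ Q) [IsIso (fib F)] {a : Γ(P.base, ⊤)} [IsIso (fib (smulH a F))]
    {U : Q.base.Opens} (q : Γ(mdl Q, U)) :
    resR (le_top : F.base ⁻¹ᵁ U ≤ ⊤) a • (show Γ(mdl P, F.base ⁻¹ᵁ U) from pl (smulH a F) q) = pl F q := by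
  have hinj : Function.Injective ((fib F).app (F.base ⁻¹ᵁ U)) :=
    ((ConcreteCategory.isIso_iff_bijective _).1 (Scheme.Modules.Hom.isIso_iff_isIso_app.1 inferInstance _)).1
  refine hinj ?_
  rw [fib_pl, ← smulG_app']
  exact fib_pl (smulH a F) q

end Groth.Agent.LineDescQ
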