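import Groth.Agent.LineDescQ.RigDescent

/-!
# Rigidified invertible modules form an fppf sheaf
-/

set_option autoImplicit false
set_option backward.isDefEq.respectTransparency false
set_option backward.isDefEq.respectTransparency.types false
set_option linter.style.haveILetI false
set_option maxHeartbeats 1000000

universe u

open CategoryTheory CategoryTheory.Limits AlgebraicGeometry TopologicalSpace Pseudofunctor

noncomputable section

namespace Groth.Agent.LineDescQ.Rig

open ThetaLib ThetaLibQ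
open scoped Groth.Agent.H23.PicMul

variable {X S : Scheme.{u}} {f : X ⟶ S} {σ : S ⟶ X} {hσ : σ ≫ f = 𝟙 S}
  (ha : ∀ (Z : Scheme.{u}) (z : Z ⟶ S), Flat z → Function.Bijective (pullback.snd f z).appTop)
  {T : Over S} {U : Scheme.{u}} (u : U ⟶ T.left)

variable [Flat u] [QuasiCompact u] [Surjective u]

theorem cov_eq : pullback.fst (PicF.XTproj f T) u = (pullbackLeftPullbackSndIso f T.hom u).hom ≫ cov (f := f) u := by
  refine pullback.hom_ext ?_ ?_
  · rw [Category.assoc, cov, XTmap_fst]
    exact (pullbackLeftPullbackSndIso_hom_fst _ _ _).symm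
  · rw [Category.assoc, cov, XTmap_snd, pullback.condition, ← Category.assoc]
    exact congrArg (· ≫ u) (pullbackLeftPullbackSndIso_hom_snd _ _ _).symm

theorem cov_eq' : cov (f := f) u = (pullbackLeftPullbackSndIso f T.hom u).inv ≫ pullback.fst (PicF.XTproj f T) u := by
  rw [cov_eq u, Iso.inv_hom_id_assoc]

instance : Flat (cov (f := f) u) := by rw [cov_eq' u]; infer_instance

instance : Surjective (cov (f := f) u) := by rw [cov_eq' u]; infer_instance

instance : QuasiCompact (cov (f := f) u) := by rw [cov_eq' u]; infer_instance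

include ha in
theorem exists_rig [Flat T.hom] (c' : PicF.Rig f σ hσ (U1 u))
    (hglue : PicF.pullCl (PicF.XTmap f (p1 u)) c'.1 = PicF.pullCl (PicF.XTmap f (p2 u)) c'.1) :
    ∃ c : PicF.Rig f σ hσ T, PicF.pullCl (cov u) c.1 = c'.1 := by
  obtain ⟨⟨L', hcl, hL'⟩, htriv⟩ := c'.2
  rw [← hcl] at hglue htriv
  have h1 : PicF.cl ((Scheme.Modules.pullback u).obj (Coh.structureModule T.left)) =
      PicF.cl ((Scheme.Modules.pullback (PicF.secT f σ hσ (U1 u))).obj L') :=
    (H23.PicMul.pullCl_one u).trans htriv.symm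
  obtain ⟨i⟩ := (PicGrp.cl_eq_cl_iff _ _).1 h1
  let r : PU u ⟶ (⟨PicF.XT f (U1 u), L'⟩ : Pr.{u}) := mkH (PicF.secT f σ hσ (U1 u)) i.hom
  haveI : IsIso (fib r) := inferInstanceAs (IsIso i.hom)
  obtain ⟨A', hA'b, hA'i, hA'⟩ := exists_normPair (r := r) rfl ha hL' hglue
  haveI := hA'i
  let d := datum (r := r) rfl ha hL' hA'b hA'
  obtain ⟨L, hL, C, hCb, hCi, hC⟩ := exists_descent d hL'
  haveI := hCi
  have hpull : PicF.pullCl (cov u) (PicF.cl L) = PicF.cl L' := by
    have key : ∀ (G : (⟨PicF.XT f (U1 u), L'⟩ : Pr.{u}) ⟶ (⟨PicF.XT f T, L⟩ : Pr.{u})), G.base = cov u →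
        IsIso (fib G) → PicF.pullCl (cov u) (PicF.cl L) = PicF.cl L' := by
      rintro ⟨b, φ⟩ rfl hφ
      let φ' : L' ⟶ (Scheme.Modules.pullback (cov u)).obj L := φ
      haveI : IsIso φ' := hφ
      exact (PicGrp.cl_eq_cl_iff _ _).2 ⟨(asIso φ').symm⟩
    exact key C hCb hCi
  -- the rigidification descends
  let PT : Pr.{u} := ⟨T.left, (Scheme.Modules.pullback (PicF.secT f σ hσ T)).obj L⟩
  let j : PT ⟶ (⟨PicF.XT f T, L⟩ : Pr.{u}) := mkH (PicF.secT f σ hσ T) (𝟙 _)
  haveI : IsIso (fib j) := inferInstanceAs (IsIso (𝟙 _))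
  haveI := isIso_fib_comp r C
  obtain ⟨G, hGb, hG, hGi⟩ := exists_lift j (r ≫ C) u (by
    show u ≫ PicF.secT f σ hσ T = PicF.secT f σ hσ (U1 u) ≫ C.base
    rw [hCb, cov, secT_XTmap]; rfl)
  haveI := hGi inferInstance
  obtain ⟨F, hFb, hFi, -⟩ := exists_desc (PicLoc.isInvertible_structureModule T.left) (inv_Ptriv u)
    (PicClLib.isInvertible_pullback _ hL) (trivProj u) G (𝟙 T.left)
    ((Category.comp_id u).trans hGb.symm) fun W a a' hai hai' heq => by
      haveI := hai
      haveI := hai'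
      haveI := isIso_fib_comp a r
      haveI := isIso_fib_comp a' r
      have hb : a.base ≫ u = a'.base ≫ u := congrArg CoGrothendieck.Hom.base heq
      obtain ⟨a'', hb'', hi'', hrel⟩ := d.exists_rel (a ≫ r) (a'.base ≫ PicF.secT f σ hσ (U1 u)) inferInstance (by
        show (a.base ≫ PicF.secT f σ hσ (U1 u)) ≫ cov u = (a'.base ≫ PicF.secT f σ hσ (U1 u)) ≫ cov u
        rw [Category.assoc, Category.assoc, cov, secT_XTmap]
        exact (Category.assoc _ _ _).symm.trans ((congrArg (· ≫ PicF.secT f σ hσ T) hb).trans (Category.assoc _ _ _)))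
      obtain ⟨z, hzb, hz, hzi⟩ := exists_lift r a'' a'.base hb''.symm
      haveI := hzi hi''
      obtain ⟨κ, hκ, hκ1, hκ2⟩ := hrel
      have hκb : κ.base = pullback.lift a.base a'.base hb ≫ PicF.secT f σ hσ (U2 u) := by
        refine pt_ext u ?_ ?_
        · rw [Category.assoc, secT_XTmap, ← Category.assoc,
            show pullback.lift a.base a'.base hb ≫ (p1 u).left = a.base from pullback.lift_fst _ _ _]
          exact congrArg CoGrothendieck.Hom.base hκ1
        · rw [Category.assoc, secT_XTmap, ← Category.assoc,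
            show pullback.lift a.base a'.base hb ≫ (p2 u).left = a'.base from pullback.lift_snd _ _ _, ← hA'b, ← hb'']
          exact congrArg CoGrothendieck.Hom.base hκ2
      have h2 := hA' W κ hκ ⟨_, hκb⟩ a z hai inferInstance hκ1.symm (hz.trans hκ2.symm)
      have hz' : z = a' := cancel (trivProj u) hzb (h2.symm.trans heq)
      refine cancel j ?_ ?_
      · show a.base ≫ G.base = a'.base ≫ G.base
        rw [hGb]; exact hb
      · rw [Category.assoc, Category.assoc, hG, ← Category.assoc, ← Category.assoc]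
        refine hC _ _ inferInstance inferInstance ⟨κ, hκ, hκ1, ?_⟩
        rw [← hz', hz, hκ2]
  have htrivT : PicF.pullCl (PicF.secT f σ hσ T) (PicF.cl L) = 1 := by
    have key : ∀ (G : P0 T.left ⟶ PT), G.base = 𝟙 _ → IsIso (fib G) →
        PicF.pullCl (PicF.secT f σ hσ T) (PicF.cl L) = 1 := by
      rintro ⟨b, φ⟩ rfl hφ
      let φ' : Coh.structureModule T.left ⟶ (Scheme.Modules.pullback (𝟙 T.left)).obj (mdl PT) := φ
      haveI : IsIso φ' := hφ
      exact ((PicGrp.cl_eq_cl_iff _ _).2 ⟨asIso φ' ≪≫ (Scheme.Modules.pullbackId T.left).app _⟩).symm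
    exact key F hFb hFi
  exact ⟨⟨PicF.cl L, ⟨L, rfl, hL⟩, htrivT⟩, hpull.trans hcl⟩

end Groth.Agent.LineDescQ.Rig
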